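import Cfsg.Agent.SP.Pos.D.J4Chk2
import Cfsg.Agent.SP.Pos.HN.Mat0
import Cfsg.Agent.SP.Lie.All_mg
import Cfsg.Agent.SP.Pos.J4
import Cfsg.Agent.SP.Mon.D3.Box
import Cfsg.Agent.SP.Mon.Two.Base
import Cfsg.Agent.SP.Mon.D1.Box
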