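import Cfsg.Agent.SP.Mon.Two.Quad_m3
import Cfsg.Agent.SP.Pos.D.LyChk2_m3
import Cfsg.Agent.SP.NegS.RowsB_mg_m3
import Cfsg.Agent.R2.H8.Mon.Ex_m3
import Cfsg.Agent.H848.OctFacts_m3
import Cfsg.Agent.SP.Mon.L3.Iface_m3
import Cfsg.Agent.SP.NTh.D4.Abs_m3
import Cfsg.Agent.SP.Pos.D.J4Chk1_m3
import Cfsg.Agent.SP.NegS.J1_m3
import Cfsg.Agent.SP.Pos.D.LyChk1_m3
import Cfsg.Agent.SP.Mon.D1.Mod_m3
import Cfsg.Agent.SP.NegS.Gen
import Cfsg.Agent.TypeM.OutLyFin
import Cfsg.Agent.SP.Pos.HN.Mat0_m3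
import Cfsg.Agent.FastGrp
import Cfsg.Agent.Prune
set_option linter.all false

section
prune_inst 0x7ffefffbeff8bfffffff7e7ffffddffdfdf9ffffeffffdfbfffdefff3fff6b6fefedffafefefd0fd9ff6e2bc30f87bd3fffffeffeb6fdc7ffffd5ffcdffbffdffffffd2d71ffbcbe1ffe6ffffff97fee7f3fffffffffffffffffffffffffffffffffffffffff

-- part: SP/Pos/HN/Lists
section
prune_inst 0x10004100740000000818000022002020600001000020400021000c00094901012005010102f0260091d43cf07842c00000100149023800002a00320040020000002d28e004341e00190000006801180c00000000000000000000000000000000000000000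
set_option linter.all false

/-- decoders of the packed data (elaboration time only) -/
private noncomputable def pk61d (b S i : Nat) : Nat := Nat.mod (Nat.shiftRight S (Nat.mul b i)) (Nat.shiftLeft (nat_lit 1) b)
private noncomputable def pk61f {α : Type} (t : Nat) (f : Nat → α) : α := Nat.rec (f Nat.zero) (fun k _ => f (Nat.succ k)) t
private noncomputable def pk61l {α : Type} (f : Nat → α) (s e : Nat) (tl : List α) : List α :=
  pk61f e fun e => Nat.rec tl (fun k ih => List.cons (pk61f (Nat.sub e (Nat.succ k)) f) ih) (Nat.sub e s)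

/-! # HN: lists of elements of `U₃(8):3` -/

set_option autoImplicit false
set_option maxRecDepth 10000

namespace Cfsg.Agent.SP.PosB.HN

open Cfsg.Agent.Lib.PackMatGroup (asm)

/-- tree -/
def par1 : ℕ := asm 1024 [0x1a0340680c8190300600c01802e05c0b81702c0580b01602a0540a8140280500a01302604c09012024044088110220400801002003c0780f01c0380700d01a0340600c01802c0580b0160280500a014024048090100200400800e01c0380700c0180300600a014028050080100200400600c018030040080100200200400000,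
    0x1c03706e0dc1b03606c0d41a8340680d01a0330660cc198320640c4180300600c01782f05e0b81702d05a0b41682c0580b01602b0560a81502a0520a4148290500a01382704e0981302604c0941282504a0901202404608c1182304408811021042084108200400801001f03e07c0f01e03c0740e81d0380700d81b03606c0d,
    0xe17c2f05e0bc1782e85d0b81702e05b0b41682c8590b21602b8570ac1542a8530a4148288510a01402804f09e1382704e09a1342684c09612c2504a092124248490901202384708e1182304608a1142284508811022043086108210420821042004007e0fc1f83e07c0f81e83d07a0f41e03c0760ec1d83b0740e81d0390700e,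
    0x112223c4788e11c2384688d1182304588a1122204408610a21442083106208410811022044007f0fe1fc3f87e0fc1f43e87c0f81ec3d0790f21e43c0780f01e03b8770ec1d83a8740e81cc388710e01c03786f0dc1b43686c0d81b03586b0d61a8350690d21a0340680ce19c330660cc194320640c618c318620c41843005f0b,
    0x58eb1cc384708e01c03806f8df1ba3686d0d91ae3586a8d41a4348688d019c334660cc196328650ca19231c630c518a314620c3186304608c017c2f85e0bc1762d4590b11622c0578ae1582a8540a814e298528a4146288508a11402804f89e13a2744e09c13826c4d89a1322604c09812e2584b09512a2544a0921242484909,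
    0x1aa2f25bcb515f2ba564a694b2904e89c1362684b89592a25249c9292424647c8e91c2364688b1152264488810e21a428849032064047f8fd1ee3d0798f11e03b07]
/-- tree -/
def let1 : ℕ := asm 1024 [0x108c49c46342081211a4482d46620ca1198d90a38c440466341a44382329a0438118c30888cc6488d14233118d08c231a4598d22222198d068088469908c68344429a21a31b4446410c88888da0d11190d18d068c6444434631106a32222198d068888888c68346111111a2d08442234d111911a8d06888888d18d08c88886a0,
    0x180308a09124161906180950350b40160a5108444598c22886446086d004421111481820c4886506a269940a2211124d02cc6946432844518d810921404462468]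
theorem cT1 : chkT1 par1 let1 = true := by decide +kernel

/-- tree -/
def par2 : ℕ := asm 1024 [0x90f12e4280c81920a0605a88002e0c8708f90f40580b0161dc0540a84c0280500a01302604c1581202427c088110222f80801002003c0780f156038070a201a0344c80c01802c0580c0162180500a0141d80480906e020040080c001c0a8070a401803006012014028050380100200405000c018030320080100200200400000,
    0x1c05406e0dc6e03906c0d41a8bd0680d01a14b08e5c4850620640c48f11b2f43181782f05e4741702d292610210310580b01602b0560a81507208053c371280980a02695104e2dc7a14704c3e41282504a090120241ee08c118231ea318a0922042084108ac0400801001f03e07c5381e03c0c40e81d0380704802e22c44c0e,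
    0xe19c918ea0f23602e85d1c6640c305b14c280320590b2160749a03b8374c791e1561485a0f216e2e4378ed1bc1382704e108134269d31001cc2504a19a124248490901207404708e1b4230460e6114228451ec110220430861a8210420821cc200401780fc1f8e01820f84983d07a0f41e03c18a0ec1d83b2582e8458391140e,
    0x31a823c4790b23c42c468d81663704588a112274c888618e320760d33ce364760a8102204ab8ba0fe1fc3f87e0fc1f43e9ae0f821c3d0f20f21e48e8780f01e04493d16e3e86b9793966a4388712fe74c3786f0dc1b4368c011453c7d94a1a03d0350c218862c3406831219c3e8660cc194c70641ae18c318ae0c4308301200b,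
    0xa8f231a384709771c03806f8df3a23686d0d91ae3946a8d41a438c6896719c334660cc1d23409b9941da31c6316618a314621a42ae500609711a23885e0bc17634caa8e8232560578c0158568750a814e298a813c2fe598508a11402804f8c113a274688fd2183709b8b919c2604c09812e2584b12812a2544a0cd236440aa0d,
    0x1b231c5ecbf1ce2ba794a694b2906589c136268734959532526bc9294f2467bc9e1292b651c8b1ba2724a08818127a4b0849512a2404e694a28e3d0db8f11e27407]
/-- tree -/
def let2 : ℕ := asm 1024 [0x108a4db45b40b05925a6882d22896886590c10834c14c069005a2cb25328b4114186926882cb4084d141b2112d04c229a4d94d301a2196d040868068308a68109828109a21b2c86410ca4536d105a0990d10d04da6414434530d06920cb0594db6d108808a6834510910da2d064120b4d00990da2d04986882d10d00c8088680,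
    0x34c90ca0512026d80c024868220a61a0022896404594c22486c260844a6432106532d829964b6186892194092182db0d02c96914914816d26980c14986d360168]
theorem cT2 : chkT2 par2 let2 = true := by decide +kernel

theorem cPR : chkPR rels = true := by decide +kernel

/-- word -/
def y1 : List ℕ := [1, 1, 3, 3, 0]
/-- word -/
def y3 : List ℕ := [2, 0]
/-- word -/
def v6 : List ℕ := [1, 1, 1, 2, 1, 3, 3, 0, 2, 0]
/-- word -/
def s1 : List ℕ := [3, 1, 1, 3, 1, 3, 0, 3, 3, 0]
/-- word -/
def s3 : List ℕ := [2, 0, 2, 0, 2, 0, 2, 0]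
/-- word -/
def x9 : List ℕ := [2, 4, 3, 4]
/-- word -/
def x9c : List ℕ := [1, 2, 4]
/-- word -/
def x19 : List ℕ := [0, 2, 4, 3]

/-- the two-point stabiliser -/
noncomputable def wH : List (List ℕ) :=
  (by
  refine (?fq9001 : ((pk61l (fun i1 => ((fun g1 : Nat → Nat => pk61l (fun i2 => (pk61d (nat_lit 2) 
    (nat_lit 0xa22600059fdc0005556889880a70a22648f577377e889958f577d57f6029fdfcf555a8028cddf428898005580a73dfcf23d5e029d0cddf3d57f55567f7cddf63d5d8f5767f77377e2a308a8e3d5d63d5d500a2263377c80a7a2265a6a28a802880a75f7f3c008f570a6a297377e3d5c22a350288982029ca802bd57f4) i2)) (g1 i1) (g1 (Nat.succ i1)) List.nil) fun j => (pk61d (nat_lit 9) 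
    (nat_lit 0xf97abc9dbea73789bbd8e9f3f96c660af370b5d86af4da4512793294c822d0c833f9eaed71b71a6cc61ae962ae55a893290431f4e6692f96ca2471e8d0582a14078280b010040000) j))) (nat_lit 0) (nat_lit 63) List.nil) : List (List ℕ))
    = ?xq9001 → (List (List ℕ))) ?hq9001; (case hq9001 => (set_option maxRecDepth 1000000 in conv => lhs; reduce)); intro _; exact ?xq9001 : List (List ℕ))
/-- items -/
noncomputable def iH : List (ℕ × List ℕ) :=
  (by
  refine (?fq9002 : ((pk61l (fun i1 => (_root_.Prod.mk i1 List.nil)) (nat_lit 0) (nat_lit 63) List.nil) : List (ℕ × List ℕ))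
    = ?xq9002 → (List (ℕ × List ℕ))) ?hq9002; (case hq9002 => (set_option maxRecDepth 1000000 in conv => lhs; reduce)); intro _; exact ?xq9002 : List (ℕ × List ℕ))
theorem okH : chkOk wH 63 = true := by decide +kernel
theorem cH : chkC wH (List.replicate 63 1) 63 1 iH 0 = true := by decide +kernel
theorem lH : iH.length = 63 := by decide +kernel

/-- items -/
def i2B : List (ℕ × List ℕ) := [(0, [3, 1]), (0, [1, 1]), (0, [3, 0]), (0, [0, 0]), (0, [1]), (0, []), (0, [0])]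
theorem r2B : chkReps [[2]] [6] 1 2 1 512 = true := by decide +kernel
theorem c2B : chkC [[2]] [6] 1 2 i2B 0 = true := by decide +kernel
theorem l2B : i2B.length = 7 := by decide +kernel

/-- items -/
noncomputable def i4A : List (ℕ × List ℕ) :=
  (by
  refine (?fq9003 : ((pk61l (fun i1 => (_root_.Prod.mk (nat_lit 0) ((fun g1 : Nat → Nat => pk61l (fun i2 => (pk61d (nat_lit 2) 
    (nat_lit 0xc07568a23c35801a240c3ca16300a70836089a80da70b285e88328a3da828dca4d8d95a7e260e9e5997400754002140a5ac61a9629fd9f70c327cdd32597588c30c9c9f236596934c83809c25d65273630d95009c0cd76a364c8d672977648d8a80f5c8dcd8f5720dca58c86870a37603d636d9dcdf607c28d8ca3ea58d8d6540f32a53670a3254977d3226295d88c8c28aab5237757c8802a2a6352599d670958a2303258df009766219c32298b7) i2)) (g1 i1) (g1 (Nat.succ i1)) List.nil) fun j => (pk61d (nat_lit 10) 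
    (nat_lit 0x2bbadab2ab6a9a9aa1a7697a5691a368ba1e839f6799d6729c66b99a61972599564f93a49912418f6398ce2f8b22989a218761985a1383a0981a017fdfb7d9f47c5ed7a9e578dde769d6745cc71dc26f5b86cdaf6ada66859e66d98651916318a615825f9795d9755c169595615795955d5153549515414f1374dd314c12b4a12347d1b4591143108408fc3dcf23c0eb3a4e4380db364d5344cd320c4304bb2d4b22b8ac298a22749a258942388820c7f1e4741c46e1a0621745815451130471083d0e4340bc2c098220701804c0f02c0700c00) j)))) (nat_lit 0) (nat_lit 168) List.nil) : List (ℕ × List ℕ))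
    = ?xq9003 → (List (ℕ × List ℕ))) ?hq9003; (case hq9003 => (set_option maxRecDepth 1000000 in conv => lhs; reduce)); intro _; exact ?xq9003 : List (ℕ × List ℕ))
theorem r4A : chkReps [y1] [3] 1 4 1 512 = true := by decide +kernel
theorem c4A : chkC [y1] [3] 1 4 i4A 0 = true := by decide +kernel
theorem l4A : i4A.length = 168 := by decide +kernel

/-- items -/
noncomputable def i4C : List (ℕ × List ℕ) :=
  let y0 : List (ℕ × List ℕ) := (by
  refine (?fq9004 : (pk61l (fun i0 => (_root_.Prod.mk (pk61d (nat_lit 1) 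
    (nat_lit 0x1e3) i0) ((fun g0 : Nat → Nat => pk61l (fun i1 => (pk61d (nat_lit 2) 
    (nat_lit 0x3cf75c8374020a203000d9) i1)) (g0 i0) (g0 (Nat.succ i0)) List.nil) fun j => (pk61d (nat_lit 6) 
    (nat_lit 0x2da6481c653347080) j)))) (nat_lit 0) (nat_lit 10) List.nil : List (ℕ × List ℕ))
    = ?xq9004 → (List (ℕ × List ℕ))) ?hq9004; (case hq9004 => (set_option maxRecDepth 1000000 in conv => lhs; reduce)); intro _; exact ?xq9004 : List (ℕ × List ℕ))
  let y1 : List (ℕ × List ℕ) := (by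
  refine (?fq9005 : (fun (tl : List (ℕ × List ℕ)) => (pk61l (fun i0 => (_root_.Prod.mk (pk61d (nat_lit 1) 
    (nat_lit 0x1382618f0e3b20a53345aba269599dca7b7b92ca2) i0) ((fun g0 : Nat → Nat => pk61l (fun i1 => (pk61d (nat_lit 2) 
    (nat_lit 0x289d5a289d90f1d603500d220d030d87c5c80824a88800c230975954a8570a5dd55607d373755c357002025509dca8a0f632364003024c328cd557037009c0700322a4a08c3cf07029f57c165a8d3262281d865d57724969de9675983409dd575e3c60d6927670c302588d0305c80ca2024d68221f5c02725350d960825553d5c8f1da17223dca421e08f0035838d8958570f43cc80ca3870d3c8c302300f038a805f363a55c9687dc35820a3765931c3c02203542757c00c882509556) i1)) (g0 i0) (g0 (Nat.succ i0)) List.nil) fun j => (pk61d (nat_lit 10) 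
    (nat_lit 0x2f5bc2ecba2e3b7ad9b52ceb22c4b02bbadab2abaa9a96a1a6e97a4a8ca2285a027c9e2739c26a99a629825b95a549424a9123f8ea378da318b2278821b85a1183206805fd7e1f47b9e978ddd761d5745cc71dc46fdbc6e1b46bdaa6a1a36819b65991631876057b5dd715b1675895d569575494c521424f5384cd2f4a5234811d461124390840cfe3e8f63c4ed39ce1374d734cd1334c830cbe2e4b72c8ad2a4a527c982589022c851fc7a1d8711b86a1905f16c561444d120420f83a0dc310a8230881c060130380a01400) j)))) (nat_lit 0) (nat_lit 162) tl : List (ℕ × List ℕ)))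
    = ?xq9005 → (List (ℕ × List ℕ))) ?hq9005; (case hq9005 => (set_option maxRecDepth 1000000 in conv => lhs; reduce)); intro _; exact ?xq9005 y0 : List (ℕ × List ℕ))
  (by
  refine (?fq9006 : (fun (tl : List (ℕ × List ℕ)) => (pk61l (fun i0 => (_root_.Prod.mk (pk61d (nat_lit 1) 
    (nat_lit 0xe5092f0f898c8ef19db0c3c5cffb24629adf51c1c) i0) ((fun g0 : Nat → Nat => pk61l (fun i1 => (pk61d (nat_lit 2) 
    (nat_lit 0x29cd83586217ca08222058d620a95d21f4a80234dd53d890a8a7c95201595f65658f60a290f70097555502220d5c9d803d5d78a02528c328600d9c3225a7762003359742a2600322230a68c9588096a88c8289f305d3c3ca7757655c32337dc308d90da0f0d8dcf53cf276a3d07cdf1f20002558d534dca0a33590a5208ca30a50d800c2568f76277290a97d5df40f256580a274273676022973230dc032a28059e7ca29da30d8dc3c80000358032900c0a55656088a8183c0158) i1)) (g0 i0) (g0 (Nat.succ i0)) List.nil) fun j => (pk61d (nat_lit 10) 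
    (nat_lit 0x2e9b96e1b7adab56d1b3acbb1ac2af6b8aceaeaaea7a869ba5a94a468ca1a819f2779c66c99e659825b962529324891e428f6398ce2f8ae258821c85a1082a07805fe7e1f27b1e6785dd759d2731c6705bf6e9b76c5ad6a5a46819c661946418a615805ed775d16f5a9675895d5615353d4a51d424f5384d9334b5284891f46d1644d0d42906400fe3e8f53c0ee3a0e2388dc358d0330c8310be2e4b42ccb22b0a72909e26c962408b218841f8791c86f1a8651805b15c5313c4a110410f0380d02e09c220881e0601303c0901400) j)))) (nat_lit 0) (nat_lit 164) tl : List (ℕ × List ℕ)))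
    = ?xq9006 → (List (ℕ × List ℕ))) ?hq9006; (case hq9006 => (set_option maxRecDepth 1000000 in conv => lhs; reduce)); intro _; exact ?xq9006 y1 : List (ℕ × List ℕ))
theorem r4C : chkReps [[2], y3] [3, 3] 2 4 1 512 = true := by decide +kernel
theorem c4C : chkC [[2], y3] [3, 3] 2 4 i4C 0 = true := by decide +kernel
theorem l4C : i4C.length = 336 := by decide +kernel

/-- items -/
def i3A : List (ℕ × List ℕ) := [(1, []), (0, [])]
theorem r3A : chkReps [[0], [0]] [7, 14] 2 1 9 8 = true := by decide +kernel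
theorem c3A : chkC [[0], [0]] [7, 14] 2 1 i3A 0 = true := by decide +kernel
theorem l3A : i3A.length = 2 := by decide +kernel

/-- items -/
def i6B : List (ℕ × List ℕ) := [(0, [0, 0, 0]), (1, [0, 0, 0]), (0, [1, 1]), (1, [1, 1]), (1, [1, 1, 1]), (0, [1, 1, 1]), (0, [0, 0]),
  (1, [0, 0]), (1, [1]), (0, [1]), (0, []), (1, []), (0, [0]), (1, [0])]
theorem r6B : chkReps [v6, v6] [1, 5] 2 2 1 8 = true := by decide +kernel
theorem c6B : chkC [v6, v6] [1, 5] 2 2 i6B 0 = true := by decide +kernel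
theorem l6B : i6B.length = 14 := by decide +kernel

/-- items -/
def i7 : List (ℕ × List ℕ) := [(0, [3, 1, 2, 2, 0, 0, 0, 2, 4]), (0, []), (0, [4]), (0, [3, 1, 2, 2, 0, 0, 0, 2]),
  (0, [3, 1, 1, 1, 3, 3, 0, 2, 4]), (0, [3, 1, 1, 1, 3, 3, 0, 2])]
theorem r7 : chkReps [[0]] [3] 1 1 2 1 = true := by decide +kernel
theorem c7 : chkC [[0]] [3] 1 1 i7 0 = true := by decide +kernel
theorem l7 : i7.length = 6 := by decide +kernel

/-- items -/
noncomputable def i21 : List (ℕ × List ℕ) :=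
  (by
  refine (?fq9007 : ((pk61l (fun i1 => (_root_.Prod.mk (pk61d (nat_lit 1) 
    (nat_lit 0xb46) i1) ((fun g1 : Nat → Nat => pk61l (fun i2 => (pk61d (nat_lit 3) 
    (nat_lit 0x106c92d06c92e441b24b8800917100122d00122e20d925c40048b) i2)) (g1 i1) (g1 (Nat.succ i1)) List.nil) fun j => (pk61d (nat_lit 7) 
    (nat_lit 0x467cd9aac568cd121224000) j)))) (nat_lit 0) (nat_lit 12) List.nil) : List (ℕ × List ℕ))
    = ?xq9007 → (List (ℕ × List ℕ))) ?hq9007; (case hq9007 => (set_option maxRecDepth 1000000 in conv => lhs; reduce)); intro _; exact ?xq9007 : List (ℕ × List ℕ))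
theorem r21 : chkReps [[0], [0]] [1, 2] 2 1 2 1 = true := by decide +kernel
theorem c21 : chkC [[0], [0]] [1, 2] 2 1 i21 0 = true := by decide +kernel
theorem l21 : i21.length = 12 := by decide +kernel

/-- items -/
def i3Ac : List (ℕ × List ℕ) := [(0, [1, 1, 1, 2, 2]), (0, [0, 0, 0, 2, 2]), (0, [2, 2]), (0, [0, 0, 2, 2]), (0, [1, 1, 2, 2]),
  (0, [0, 2, 2]), (0, [1, 2, 2])]
theorem r3Ac : chkReps [y1] [4] 1 1 9 8 = true := by decide +kernel
theorem c3Ac : chkC [y1] [4] 1 1 i3Ac 0 = true := by decide +kernel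
theorem l3Ac : i3Ac.length = 7 := by decide +kernel

/-- items -/
noncomputable def i3Bc : List (ℕ × List ℕ) :=
  (by
  refine (?fq9008 : ((pk61l (fun i1 => (_root_.Prod.mk (pk61d (nat_lit 1) 
    (nat_lit 0x3b82) i1) ((fun g1 : Nat → Nat => pk61l (fun i2 => (pk61d (nat_lit 2) 
    (nat_lit 0xc80a35a709dcc9ccfe80cca4ca3294ca0ca00370237) i2)) (g1 i1) (g1 (Nat.succ i1)) List.nil) fun j => (pk61d (nat_lit 7) 
    (nat_lit 0x1669cc8cfdcb35a9d11b2a38400) j)))) (nat_lit 0) (nat_lit 14) List.nil) : List (ℕ × List ℕ))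
    = ?xq9008 → (List (ℕ × List ℕ))) ?hq9008; (case hq9008 => (set_option maxRecDepth 1000000 in conv => lhs; reduce)); intro _; exact ?xq9008 : List (ℕ × List ℕ))
theorem r3Bc : chkReps [[2], y3] [4, 4] 2 1 9 8 = true := by decide +kernel
theorem c3Bc : chkC [[2], y3] [4, 4] 2 1 i3Bc 0 = true := by decide +kernel
theorem l3Bc : i3Bc.length = 14 := by decide +kernel

/-- items -/
def i6Bc : List (ℕ × List ℕ) := [(0, [0, 0, 0, 2, 2]), (0, [1, 1, 2, 2]), (0, [1, 1, 1, 2, 2]), (0, [0, 0, 2, 2]), (0, [1, 2, 2]),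
  (0, [2, 2]), (0, [0, 2, 2])]
theorem r6Bc : chkReps [y1] [10] 1 2 1 8 = true := by decide +kernel
theorem c6Bc : chkC [y1] [10] 1 2 i6Bc 0 = true := by decide +kernel
theorem l6Bc : i6Bc.length = 7 := by decide +kernel

/-- items -/
noncomputable def i6Cc : List (ℕ × List ℕ) :=
  (by
  refine (?fq9009 : ((pk61l (fun i1 => (_root_.Prod.mk (pk61d (nat_lit 1) 
    (nat_lit 0x1655) i1) ((fun g1 : Nat → Nat => pk61l (fun i2 => (pk61d (nat_lit 2) 
    (nat_lit 0xca0a03328327028cca09dd69cca533f3290370237032) i2)) (g1 i1) (g1 (Nat.succ i1)) List.nil) fun j => (pk61d (nat_lit 7) 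
    (nat_lit 0x16694c8d01cb45a9d01a2838300) j)))) (nat_lit 0) (nat_lit 14) List.nil) : List (ℕ × List ℕ))
    = ?xq9009 → (List (ℕ × List ℕ))) ?hq9009; (case hq9009 => (set_option maxRecDepth 1000000 in conv => lhs; reduce)); intro _; exact ?xq9009 : List (ℕ × List ℕ))
theorem r6Cc : chkReps [[2], y3] [10, 10] 2 2 1 8 = true := by decide +kernel
theorem c6Cc : chkC [[2], y3] [10, 10] 2 2 i6Cc 0 = true := by decide +kernel
theorem l6Cc : i6Cc.length = 14 := by decide +kernel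

/-- items -/
noncomputable def i12Bc : List (ℕ × List ℕ) :=
  (by
  refine (?fq9010 : ((pk61l (fun i1 => (_root_.Prod.mk (nat_lit 0) ((fun g1 : Nat → Nat => pk61l (fun i2 => (pk61d (nat_lit 2) 
    (nat_lit 0x18a6329aa5a968006299a5589767da9a593767a03a5568a55e8029627d8a57c88a55625c976258955af227f3e8a027d829a75c2a25da589a67fa23e80c8a25d9372225da) i2)) (g1 i1) (g1 (Nat.succ i1)) List.nil) fun j => (pk61d (nat_lit 9) 
    (nat_lit 0x43e11007dbdde0e87136daad2663117cbc5a2b54ea14d2551c87409e4e66c3317cb857279208039190a8461f0c0401000) j)))) (nat_lit 0) (nat_lit 42) List.nil) : List (ℕ × List ℕ))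
    = ?xq9010 → (List (ℕ × List ℕ))) ?hq9010; (case hq9010 => (set_option maxRecDepth 1000000 in conv => lhs; reduce)); intro _; exact ?xq9010 : List (ℕ × List ℕ))
theorem r12Bc : chkReps [y1] [1] 1 4 1 8 = true := by decide +kernel
theorem c12Bc : chkC [y1] [1] 1 4 i12Bc 0 = true := by decide +kernel
theorem l12Bc : i12Bc.length = 42 := by decide +kernel

/-- items -/
noncomputable def i12Cc : List (ℕ × List ℕ) :=
  (by
  refine (?fq9011 : ((pk61l (fun i1 => (_root_.Prod.mk (pk61d (nat_lit 1) 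
    (nat_lit 0x9806af821b60ce7f0f1f5) i1) ((fun g1 : Nat → Nat => pk61l (fun i2 => (pk61d (nat_lit 2) 
    (nat_lit 0x2263cca000828c9ca0309dc0f7636737ca27cf0a8f322308c300a34c9d3f63a5a0c296698299c0a33232037532757209a337ca1d688aa583d88c099dd8c803cca008c39a2280d03fcdf68cfc03d68c9c0cfc2775d9628c23670ca557569d408dc08dd30230325a74ca030a637dda25d5c957220ca0374cfc555f035f3da77c3e68955ccfd4cfd09dd32953295a773080203037730835fd55c32940dc) i2)) (g1 i1) (g1 (Nat.succ i1)) List.nil) fun j => (pk61d (nat_lit 10) 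
    (nat_lit 0x26f99e5f95e5092a428ea348b2248721482e037f1f47b9e777dd7741c8701ba6d1ac68d9b64d8b60d7b5cd6c5915d5594f51d3f4dd2f4a5224691242d063fcf73bce6378d8344cb30cbb2ccac2949e25c90220801e0711ac6517456138461003a0c82a0901d0540e01c00) j)))) (nat_lit 0) (nat_lit 84) List.nil) : List (ℕ × List ℕ))
    = ?xq9011 → (List (ℕ × List ℕ))) ?hq9011; (case hq9011 => (set_option maxRecDepth 1000000 in conv => lhs; reduce)); intro _; exact ?xq9011 : List (ℕ × List ℕ))
theorem r12Cc : chkReps [[2], y3] [1, 1] 2 4 1 8 = true := by decide +kernel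
theorem c12Cc : chkC [[2], y3] [1, 1] 2 4 i12Cc 0 = true := by decide +kernel
theorem l12Cc : i12Cc.length = 84 := by decide +kernel

theorem oy1 : chkOrd y1 12 = true := by decide +kernel
theorem oy2 : chkOrd [2] 12 = true := by decide +kernel
theorem oy3 : chkOrd y3 12 = true := by decide +kernel
theorem oa : chkOrd [0] 21 = true := by decide +kernel
theorem ov : chkOrd v6 6 = true := by decide +kernel
theorem ox9 : chkOrd x9 9 = true := by decide +kernel
theorem ox9c : chkOrd x9c 9 = true := by decide +kernel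
theorem ox19 : chkOrd x19 19 = true := by decide +kernel
theorem ev2 : chkEq v6 2 [0] 14 = true := by decide +kernel
theorem ev3 : chkEq v6 3 [2] 6 = true := by decide +kernel
theorem ey1 : chkEq y1 6 [2] 6 = true := by decide +kernel
theorem es1 : chkEq s1 1 y1 4 = true := by decide +kernel
theorem es3 : chkEq s3 1 y3 4 = true := by decide +kernel
theorem es2 : chkEq [2, 2, 2, 2] 1 [2] 4 = true := by decide +kernel
theorem ec : chkEq [0, 0, 0, 0, 0, 0, 0] 1 [0] 7 = true := by decide +kernel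
theorem fx9 : cnt x9 3 = 0 := by decide +kernel

end Cfsg.Agent.SP.PosB.HN
end

-- part: SP/Mon/Two/Tr
section
prune_inst 0x300000000018000020000020000000000000000001000400004100010001000102602600001008400000000000000000020800000a000200400000000000000000000000010000006800000000000000000000000000000000000000000000000
set_option linter.all false
open scoped Cfsg.Agent.FastGrp

/-! # S5755, the Monster, 2-local subgroups: from the frame to all pairs, triples and arks -/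

set_option autoImplicit false
set_option linter.unusedSectionVars false

namespace Cfsg.Agent.SP.Mon.Two

open Cfsg
open Cfsg.Agent.MonsterU.Lam2
open Cfsg.Agent.MonsterU.CoFrameL2
open Cfsg.Agent.MonsterU.Ch
open Cfsg.Agent.R2.H4.Mon.Frm Cfsg.Agent.R2.H4.Mon.GeoInst
open Cfsg.Agent.R2.M7
open Cfsg.Agent.R2.M7.Geo (cj)
open Cfsg.Agent.H848.TenB (T)
open Cfsg.Spor (Co1)
open Subgroup (centralizer)

variable {G : Type*} [Group G] [Finite G] {Q : Subgroup G} {z : G} {eta : G → L2}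
  {pi : centralizer ({z} : Set G) →* Co1} {y τ : G}

theorem back {k x a b : G} (h : x * (k * a * k⁻¹) * x⁻¹ = k * b * k⁻¹) : k⁻¹ * x * k * a * (k⁻¹ * x * k)⁻¹ = b := by
  calc k⁻¹ * x * k * a * (k⁻¹ * x * k)⁻¹ = k⁻¹ * (x * (k * a * k⁻¹) * x⁻¹) * k := by group
    _ = b := by rw [h]; group

theorem back_comm {k x a : G} (h : x * (k * a * k⁻¹) = k * a * k⁻¹ * x) : k⁻¹ * x * k * a = a * (k⁻¹ * x * k) :=
  mul_inv_eq_iff_eq_mul.1 (back (mul_inv_eq_iff_eq_mul.2 h))

theorem SS_conj {Γ : Geo G} (hB : Γ.Basic) {a b w : G} (h : Col Γ a b) (g : G) (hw : w ∈ SS Γ a b) :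
    g * w * g⁻¹ ∈ SS Γ (g * a * g⁻¹) (g * b * g⁻¹) :=
  ⟨hB.pt_conj w hw.1 g, hB.QQ_conj a h.1 g w hw.2.1, hB.QQ_conj b h.2.1 g w hw.2.2.1, fun e => hw.2.2.2.1 (conj_inj e),
    fun e => hw.2.2.2.2.1 (conj_inj e), fun e => hw.2.2.2.2.2 (conj_inj (x := g) (e.trans (by group)))⟩

theorem ncard_pre (h : Chart Q z eta pi) (S : Set L2) : {w | w ∈ Q ∧ eta w ∈ S}.ncard = S.ncard * 2 := by
  have := finL2
  have key : ∀ q ∈ Q, q * z ≠ q ∧ eta (q * z) = eta q := fun q hq =>
    ⟨fun e => h.large.z_ne (mul_eq_left.1 e), by rw [h.eta_mul _ hq _ h.large.z_mem, h.eta_z, add_zero]⟩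
  apply le_antisymm
  · refine fib_le eta (Set.toFinite _) (Set.toFinite _) (fun _ hw => hw.2) fun v _ => ?_
    obtain ⟨q, hq, rfl⟩ := h.eta_surj v
    exact le_trans (Set.ncard_le_ncard (t := {q, q * z}) (fun w hw => (h.eta_eq hw.1.1 hq).1 hw.2) (Set.toFinite _))
      (Set.ncard_pair (key q hq).1.symm).le
  · have h1 := dc (fun w v => eta w = v) (X := {w | w ∈ Q ∧ eta w ∈ S}) (Ob := S) (Set.toFinite _) (Set.toFinite _)
      (m := 2) (f := 1) (fun v hv => ?_)
      (fun _ _ => (Set.ncard_le_one (Set.toFinite _)).2 fun a ha b hb => ha.2.symm.trans hb.2)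
    · rwa [mul_one] at h1
    · obtain ⟨q, hq, rfl⟩ := h.eta_surj v
      exact (Set.one_lt_ncard (Set.toFinite _)).2 ⟨q * z, ⟨⟨Q.mul_mem hq h.large.z_mem, (key q hq).2 ▸ hv⟩, (key q hq).2⟩,
        q, ⟨⟨hq, hv⟩, rfl⟩, (key q hq).1⟩

variable (F : Fr Q z eta pi y τ) (o : golayCode)
include F

theorem col_std : Col (geo F.ch o) z y := ⟨TwoB.self z, F.twoB_y, F.QQ_z.ge F.hyQ, F.y_ne⟩

theorem SS_std {w : G} : w ∈ SS (geo F.ch o) z y ↔ w ∈ Q ∧ eta w ∈ S4 := by
  constructor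
  · rintro ⟨h1, h2, h3, h4, h5, h6⟩
    have hq : w ∈ Q := F.QQ_z.le h2
    refine ⟨hq, (R2.H8.Mon.Sing.mem_EE_of F hq (Or.inl h3)).2, fun h => ?_, ?_⟩
    · rcases R2.H8.Mon.Adj.mem_of_W1 F hq h with e | e | e | e
      · exact (basic F o).pt_ne w h1 e
      · exact h4 e
      · exact h5 e
      · exact h6 (e.trans F.zy_comm.symm)
    · obtain ⟨g, rfl⟩ := h1
      exact MonsterU.Fused.type_four_of_conj F.ch hq h4
  · rintro ⟨hq, h1, h2, h3⟩
    refine ⟨?_, F.QQ_z.ge hq, (R2.H4.Mon.Types.EE_le F ⟨hq, h1⟩).1, ?_, ?_, ?_⟩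
    · obtain ⟨g, hg⟩ := exists_four h3
      obtain ⟨c, hc, rfl⟩ := pp_surj F.ch g
      rw [← F.hy, ← eta_pp F.ch hc F.hyQ] at hg
      rcases (F.ch.eta_eq hq (F.ch.large.conj_mem c hc y F.hyQ)).1 hg.symm with e | e <;> rw [e]
      · exact F.twoB_y.conj c
      · have h4 := F.twoB_zy.conj c
        rwa [F.zy_comm, ← mul_assoc, mul_assoc _ z, ← comm_inv hc, ← mul_assoc] at h4
    · rintro rfl
      exact h2 (F.ch.eta_z ▸ W1.zero_mem)
    · rintro rfl
      exact h2 (F.hy ▸ f0_mem_W1)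
    · rintro rfl
      exact h2 (by rw [F.ch.eta_mul _ F.ch.large.z_mem _ F.hyQ, F.ch.eta_z, zero_add, F.hy]; exact f0_mem_W1)

variable {o}

theorem col_conj {a b : G} (h : Col (geo F.ch o) a b) : ∃ k, k * z * k⁻¹ = a ∧ k * y * k⁻¹ = b :=
  R2.H8.Mon.Sing.pair_conj F h.1 h.2.1 h.2.2.1 h.2.2.2

theorem SS_back {k w : G} (h : Col (geo F.ch o) (k * z * k⁻¹) (k * y * k⁻¹))
    (hw : w ∈ SS (geo F.ch o) (k * z * k⁻¹) (k * y * k⁻¹)) : k⁻¹ * w * k ∈ SS (geo F.ch o) z y := by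
  simpa [mul_assoc] using SS_conj (basic F o) h k⁻¹ hw

theorem ncard_SS {a b : G} (h : Col (geo F.ch o) a b) : (SS (geo F.ch o) a b).ncard = 7084 := by
  have h0 : (SS (geo F.ch o) z y).ncard = 7084 := by
    rw [show SS (geo F.ch o) z y = {w | w ∈ Q ∧ eta w ∈ S4} from Set.ext fun _ => SS_std F o, ncard_pre F.ch, ncard_S4]
  obtain ⟨k, rfl, rfl⟩ := col_conj F h
  rw [← h0]
  exact le_antisymm (ncard_conj_le k fun _ hw => SS_back F h hw)
    (ncard_conj_le k⁻¹ fun _ hw => by simpa using SS_conj (basic F o) (col_std F o) k hw)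

theorem tr_pair {P : G → Prop} (hP : ∀ x g, P x → P (g⁻¹ * x * g)) {n : ℕ}
    (hn : {x | P x ∧ x * z = z * x ∧ x * y = y * x}.ncard ≤ n) (a b : G) (h : Col (geo F.ch o) a b) :
    {x | P x ∧ x * a = a * x ∧ x * b = b * x}.ncard ≤ n := by
  obtain ⟨k, rfl, rfl⟩ := col_conj F h
  refine le_trans (ncard_conj_le k fun x hx => ?_) hn
  exact ⟨hP x k hx.1, back_comm hx.2.1, back_comm hx.2.2⟩

theorem tr_inv (a b : G) (h : Col (geo F.ch o) a b) :
    {x : G | x * x = 1 ∧ x * a = a * x ∧ (x * b * x⁻¹ = b ∨ x * b * x⁻¹ = a * b)}.ncard ≤ 100093370368 := by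
  obtain ⟨k, rfl, rfl⟩ := col_conj F h
  refine le_trans (ncard_conj_le k fun x hx => ?_) (inv_std F)
  refine ⟨?_, back_comm hx.2.1, hx.2.2.imp back fun e => back (e.trans (by group))⟩
  calc k⁻¹ * x * k * (k⁻¹ * x * k) = k⁻¹ * (x * x) * k := by group
    _ = 1 := by rw [hx.1]; group

theorem tr_rot {P : G → Prop} (hP : ∀ x g, P x → P (g⁻¹ * x * g)) {n : ℕ}
    (hn : ∀ w ∈ Q, eta w ∈ S4 →
      {x | P x ∧ x * z = z * x ∧ x * y * x⁻¹ = w ∧ y * w * (x * w * x⁻¹) = 1}.ncard ≤ n)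
    (c v w : G) (h : Col (geo F.ch o) c v) (hw : w ∈ SS (geo F.ch o) c v) :
    {x | P x ∧ x * c = c * x ∧ x * v * x⁻¹ = w ∧ v * w * (x * w * x⁻¹) = 1}.ncard ≤ n := by
  obtain ⟨k, rfl, rfl⟩ := col_conj F h
  obtain ⟨h1, h2⟩ := (SS_std F o).1 (SS_back F h hw)
  refine le_trans (ncard_conj_le k fun x hx => ?_) (hn _ h1 h2)
  refine ⟨hP x k hx.1, back_comm hx.2.1, back (hx.2.2.1.trans (by group)), ?_⟩
  calc _ = k⁻¹ * (k * y * k⁻¹ * w * (x * w * x⁻¹)) * k := by group
    _ = 1 := by rw [hx.2.2.2]; group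

theorem tr_plane (a b w : G) (h : Col (geo F.ch o) a b) (hw : w ∈ SS (geo F.ch o) a b) :
    Nat.card (centralizer ({a, b, w} : Set G)) ≤ 141557760 * 2 ^ 23 := by
  obtain ⟨k, rfl, rfl⟩ := col_conj F h
  obtain ⟨h1, h2⟩ := (SS_std F o).1 (SS_back F h hw)
  refine le_trans (ncard_conj_le k fun x hx => ?_) (cent_plane F h1 h2)
  rw [SetLike.mem_coe, Subgroup.mem_centralizer_iff] at hx ⊢
  rintro u (rfl | rfl | rfl)
  · exact (back_comm (hx _ (by simp)).symm).symm
  · exact (back_comm (hx _ (by simp)).symm).symm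
  · refine (back_comm ?_).symm
    simpa [mul_assoc] using (hx w (by simp)).symm

variable (ho : CoOneType.SignFacts.wt o = 8) (hE : TE F.ch τ)
include ho hE

theorem tr_ark {P : G → Prop} (hP : ∀ x g, P x → P (g⁻¹ * x * g)) {n : ℕ}
    (hn : {x | P x ∧ x * z = z * x ∧ x ∈ Subgroup.normalizer (T F.ch o : Set G)}.ncard ≤ n) {O : Subgroup G}
    (hO : O ∈ (geo F.ch o).Ark) (c : G) (hc : c ∈ O) (hc' : c ∈ (geo F.ch o).Pt) :
    {x | P x ∧ x * c = c * x ∧ Nm O x}.ncard ≤ n := by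
  obtain ⟨k, rfl, rfl⟩ := std1 (facts ho) F hE hO hc hc'
  refine le_trans (ncard_conj_le k fun x hx => ?_) hn
  refine ⟨hP x k hx.1, back_comm hx.2.1, Subgroup.mem_normalizer_fintype fun a ha => ?_⟩
  have h1 := mem_cj.1 (hx.2.2 _ (conj_mem_cj.2 ha))
  simpa [mul_assoc] using h1

theorem ark_527 {O : Subgroup G} (hO : O ∈ (geo F.ch o).Ark) : {a | a ∈ O ∧ a ∈ (geo F.ch o).Pt}.ncard = 527 := by
  have h0 : {a | a ∈ T F.ch o ∧ a ∈ (geo F.ch o).Pt}.ncard = 527 := by
    obtain ⟨t, -, -, -, -, ι, C⟩ := H848.TenE.exists_crd F.ch (facts ho) F.hyQ F.hy F.τz F.τy hE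
    have h1 : ι 0 = 1 := by
      have := C.add 0 0
      rw [add_zero] at this
      exact (mul_eq_left.1 this.symm)
    rw [← H848.TenG.ncard_sing, ← Set.ncard_image_of_injective _ C.inj]
    congr 1
    ext a
    constructor
    · rintro ⟨h2, h3⟩
      obtain ⟨v, rfl⟩ := (C.mem a).1 h2
      refine ⟨v, ⟨(C.kap v).symm.trans (H848.TenD.kap_eq_zero.2 (Or.inr h3)), ?_⟩, rfl⟩
      rintro rfl
      exact (basic F o).pt_ne _ h3 h1
    · rintro ⟨v, ⟨h2, h3⟩, rfl⟩
      exact ⟨(C.mem _).2 ⟨v, rfl⟩, (H848.TenD.kap_eq_zero.1 ((C.kap v).trans h2)).resolve_left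
        fun e => h3 (C.inj (e.trans h1.symm))⟩
  obtain ⟨k, rfl⟩ := hO
  rw [← h0]
  refine le_antisymm (ncard_conj_le k fun a ha => ⟨mem_cj.1 ha.1, ?_⟩)
    (ncard_conj_le k⁻¹ fun a ha => ?_)
  · simpa using (basic F o).pt_conj a ha.2 k⁻¹
  · rw [inv_inv]
    exact ⟨conj_mem_cj.2 ha.1, (basic F o).pt_conj a ha.2 k⟩

omit hE in
theorem sing_card (hA : (geo F.ch o).ArkFacts) {F₀ : Subgroup G} (hS : (geo F.ch o).Sing F₀) {a b : G} (ha : a ∈ F₀)
    (hb : b ∈ F₀) (ha1 : a ≠ 1) (hb1 : b ≠ 1) (hab : b ≠ a) : (F₀ : Set G).ncard ≤ 32 := by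
  obtain ⟨k, S⟩ := R2.H8.Mon.Adj.exists_conj_SF F hS.1 hS.2 ha ha1 hb hb1 hab
  obtain ⟨O, hO, hle⟩ := R2.H8.Mon.Ex.exists_ark ho F S
  refine le_trans (ncard_conj_le (Y := (cj k⁻¹ F₀ : Subgroup G)) k fun x hx => ?_) (hA.ts_card O hO _ hle S.pt)
  simpa using (conj_mem_cj (g := k⁻¹)).2 hx

end Cfsg.Agent.SP.Mon.Two
end

-- part: SP/NTh/Three/Main
section
prune_inst 0x10004100540000000000000000002000600001000020000020000c00000801000000010000a004000000280000000000001000400000000000000000000000000028000000000000010000000000000000000000000000000000000000000000000000000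
set_option linter.all false
open scoped Cfsg.Agent.FastGrp

/-! # S5755, row `Th`: the 3-local box (helper23) -/

set_option autoImplicit false
set_option linter.style.haveILetI false
set_option synthInstance.maxHeartbeats 400000
set_option synthInstance.maxSize 2000

namespace Cfsg.Agent.SP.NTh.Three

open Subgroup Cfsg.Agent.SP Cfsg.Agent.H777.Th3 Cfsg.Agent.H777.Th3.Dat Cfsg.Agent.H502.TO Cfsg.Agent.SP.NTh

theorem EA.ord {V : Subgroup Th} (h : EA V) {x : Th} (hx : x ∈ V) (x1 : x ≠ 1) : orderOf x = 3 :=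
  haveI : Fact (Nat.Prime 3) := ⟨Nat.prime_three⟩
  orderOf_eq_prime (h.pow x hx) x1

/-- an invariant family of elements of `V` has two independent members -/
theorem exists_two {A V : Subgroup Th} (h : PA A) (hE : EA V) (hN : Nm A V) {y x : Th} (hx : x ∈ V) (x1 : x ≠ 1)
    (hy : IsConj y x) : ∃ x' ∈ V, IsConj y x' ∧ x' ≠ x ∧ x' ≠ x⁻¹ := by
  by_contra hn
  push Not at hn
  refine noPt h (hE.ord hx x1) fun a ha => ?_
  by_cases e : a * x * a⁻¹ = x
  · exact Or.inl e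
  · exact Or.inr (hn _ (hN a ha x hx) (hy.trans (isConj_iff.2 ⟨a, rfl⟩)) e)

/-- pure 3B subgroups -/
theorem pure_cases {A V : Subgroup Th} (h : PA A) (hE : EA V) (hN : Nm A V) (h0 : V ≠ ⊥) (hB : PureB V) :
    27 ≤ Nat.card V := by
  haveI := finTh
  haveI : Fact (Nat.Prime 3) := ⟨Nat.prime_three⟩
  obtain ⟨⟨x, hx⟩, x1⟩ := (ne_bot_iff_exists_ne_one).1 h0
  have x1' : x ≠ 1 := fun e => x1 (Subtype.ext e)
  obtain ⟨y, hy, hyB, yx, yx'⟩ := exists_two h hE hN hx x1' (hB x hx x1')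
  have h9 := (hE.ind hx hy x1' (ne_one_of oB hyB) yx yx').nine hx hy
  obtain ⟨k, hk⟩ := IsPGroup.iff_card.1 hE.isPGroup
  rw [hk] at h9 ⊢
  have h2 : 2 ≤ k := (Nat.pow_dvd_pow_iff_le_right (by norm_num)).1 (show 3 ^ 2 ∣ 3 ^ k from h9)
  rcases h2.eq_or_lt with rfl | h3
  · exact (noLine h hE hk hB hN).elim
  · exact Nat.pow_le_pow_right (n := 3) (by norm_num) (show 3 ≤ k from h3)

/-- the hyperplane of 3B-elements of `Vs` -/
def E0 : Subgroup Th where
  carrier := {x | ∃ e, lam e = 0 ∧ x = thDat.vv e}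
  one_mem' := ⟨0, rfl, thDat.vv_zero.symm⟩
  mul_mem' := by
    rintro _ _ ⟨e, he, rfl⟩ ⟨f, hf, rfl⟩
    exact ⟨e + f, by rw [lam_add, he, hf, add_zero], (thDat.vv_add e f).symm⟩
  inv_mem' := by
    rintro _ ⟨e, he, rfl⟩
    refine ⟨-e, ?_, (vv_neg e).symm⟩
    have := lam_add e (-e)
    rw [add_neg_cancel, he, zero_add] at this
    exact this.symm

theorem dec_lam : ∀ i j : ZMod 3, i ≠ 0 → j = 0 ∨ j + (i + i) = 0 ∨ j + i = 0 := by decide

/-- minimal invariant -/
def Mn (A V : Subgroup Th) : Prop := ∀ W : Subgroup Th, W ≤ V → Nm A W → W = ⊥ ∨ W = V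

theorem caseVs {A V : Subgroup Th} (h : PA A) (hE : EA V) (hN : Nm A V) (h0 : V ≠ ⊥) (hM : Mn A V) (hV : V ≤ thDat.Vs) :
    False := by
  have hB : ∀ v ∈ E0, v ≠ 1 → IsConj xB v := by
    rintro _ ⟨e, he, rfl⟩ h1
    exact isB_vv (by rintro rfl; exact h1 thDat.vv_zero) he
  rcases hM (V ⊓ E0) inf_le_left (fun a ha v hv => ⟨hN a ha v hv.1, by
    by_cases v1 : v = 1
    · rw [v1, mul_one, mul_inv_cancel]; exact E0.one_mem
    obtain ⟨e, he⟩ := (thDat.mem_Vs).1 (hV (hN a ha v hv.1))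
    exact ⟨e, lam_of_B (he ▸ (hB v hv.2 v1).trans (isConj_iff.2 ⟨a, rfl⟩)), he⟩⟩) with e | e
  · have k : ∀ f, thDat.vv f ∈ V → lam f = 0 → thDat.vv f = 1 := fun f hf hl =>
      mem_bot.1 (e ▸ (⟨hf, f, hl, rfl⟩ : thDat.vv f ∈ V ⊓ E0))
    obtain ⟨⟨x, hx⟩, x1⟩ := (ne_bot_iff_exists_ne_one).1 h0
    have x1' : x ≠ 1 := fun e => x1 (Subtype.ext e)
    obtain ⟨y, hy, hyx, yx, yx'⟩ := exists_two h hE hN hx x1' (IsConj.refl x)
    obtain ⟨f, rfl⟩ := (thDat.mem_Vs).1 (hV hx)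
    obtain ⟨g, rfl⟩ := (thDat.mem_Vs).1 (hV hy)
    rcases dec_lam (lam f) (lam g) (fun e => x1' (k f hx e)) with q | q | q
    · exact ne_one_of (hE.ord hx x1') hyx (k g hy q)
    · have := k (g + (f + f)) (by rw [vv_add, vv_add]; exact mul_mem hy (mul_mem hx hx)) (by rw [lam_add, lam_add, q])
      rw [vv_add, vv_add, ← pow_two, sq_eq_inv (hE.pow _ hx)] at this
      exact yx (mul_inv_eq_one.1 this)
    · have := k (g + f) (by rw [vv_add]; exact mul_mem hy hx) (by rw [lam_add, q])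
      rw [vv_add] at this
      exact yx' (eq_inv_of_mul_eq_one_left this)
  · have hB' : PureB V := fun v hv => hB v (e.ge hv).2
    exact noE h hN (pure_cases h hE hN h0 hB') hB' hV

theorem dec_beta : ∀ y : V3, Qf y = 0 → Qf (y + (2, 1, 2)) = 0 → y = 0 ∨ y = (2, 1, 2) ∨ y = (1, 2, 1) := by decide +kernel

theorem Qf_pure {V : Subgroup Th} (hB : PureB V) {e : V5} (he : thDat.uu e ∈ V) : Qf e.2.2 = 0 := by
  by_cases e0 : e = 0
  · rw [e0]; rfl
  · exact Qf_of_B (hB _ he fun e1 => e0 (uu_injective th_u1_ne (e1.trans thDat.uu_zero.symm)))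

theorem casePure {A V : Subgroup Th} (h : PA A) (hE : EA V) (hN : Nm A V) (h0 : V ≠ ⊥) (hB : PureB V) (hV : V ≤ thDat.U) :
    False := by
  have h27 := pure_cases h hE hN h0 hB
  by_cases hW : ∀ e, thDat.uu e ∈ V → e.2.2 = 0
  · refine noVb h hE hN h27 fun v hv => ?_
    obtain ⟨e, rfl⟩ := (thDat.mem_U).1 (hV hv)
    exact ⟨e, rfl, Or.inl (hW e hv)⟩
  push Not at hW
  obtain ⟨e, he, e0⟩ := hW
  obtain ⟨i, j, k, hr⟩ := dec_reach _ e0
  rw [Qf_pure hB he] at hr
  obtain ⟨g, hg⟩ := actY_om i j k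
  have k1 : ∃ f : V5, thDat.uu f ∈ cj V g ∧ f.2.2 = (2, 1, 2) := by
    rcases hr with hr | hr
    · obtain ⟨f, h1, h2⟩ := hg e
      exact ⟨f, h2 ▸ cj_mem he g, h1.trans hr⟩
    · obtain ⟨f, h1, h2⟩ := hg (-e)
      exact ⟨f, h2 ▸ cj_mem (by rw [uu_neg]; exact inv_mem he) g, h1.trans hr⟩
  obtain ⟨f, hf, hf2⟩ := k1
  refine noVb (h.cj g) (hE.cj g) (hN.cj g) (by rwa [card_cj]) fun v hv => ?_
  obtain ⟨e1, h1⟩ := (thDat.mem_U).1 (hV (mem_cj.1 hv))
  obtain ⟨e2, -, h2⟩ := hg e1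
  obtain rfl : v = thDat.uu e2 := by rw [← h2, ← h1]; group
  refine ⟨e2, rfl, dec_beta _ (Qf_pure (hB.cj g) hv) ?_⟩
  have := Qf_pure (hB.cj g) (e := e2 + f) (by rw [uu_add]; exact mul_mem hv hf)
  rwa [Prod.snd_add, Prod.snd_add, hf2] at this

theorem dec_Q2 : ∀ y : V3, y.2 = (0, 0) → Qf y ≠ 2 := by decide

/-- two commuting elements of class 3C with product in class 3A -/
theorem card_CC {c d : Th} (hI : Ind c d) (hc : IsConj xC c) (hA : IsConj xA (c * d)) :
    Nat.card (centralizer ({c} : Set Th) ⊓ centralizer ({d} : Set Th) : Subgroup Th) ≤ 486 := by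
  haveI := finTh
  haveI : Fact (Nat.Prime 3) := ⟨Nat.prime_three⟩
  haveI : Fact (Nat.Prime 5) := ⟨Nat.prime_five⟩
  have h1 := th_u1_ne
  set H : Subgroup Th := centralizer ({c} : Set Th) ⊓ centralizer ({d} : Set Th) with hH
  have hm : ∀ {z}, z ∈ H → z * c = c * z ∧ z * d = d * z := fun hz =>
    ⟨mem_centralizer_singleton_iff.1 hz.1, mem_centralizer_singleton_iff.1 hz.2⟩
  have h9 : ∀ z ∈ H, 9 ∣ Nat.card (centralizer ({z} : Set Th)) := fun z hz =>
    hI.nine (mem_centralizer_singleton_iff.2 (hm hz).1.symm) (mem_centralizer_singleton_iff.2 (hm hz).2.symm)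
  have hd : Nat.card H ∣ 174960 := by
    refine (card_dvd_of_le inf_le_left).trans ?_
    rw [← card_cent_isConj hc]
    exact cC
  have nd : ∀ {p : ℕ}, ¬ p ∣ 174960 → ¬ p ∣ Nat.card H := fun hp e => hp (e.trans hd)
  have h5 : ¬ 5 ^ (0 + 1) ∣ Nat.card H := by
    intro h5
    obtain ⟨⟨s, hs⟩, ho⟩ := exists_prime_orderOf_dvd_card' (G := H) 5 h5
    rw [Subgroup.orderOf_mk] at ho
    have := h9 s hs
    rw [c5 ho] at this
    norm_num at this
  have h4 : ¬ 2 ^ (1 + 1) ∣ Nat.card H := by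
    intro h4
    obtain ⟨F, hF, hc4⟩ := exists_sub Nat.prime_two h4
    have ho : ∀ u ∈ F, u ≠ 1 → orderOf u = 2 := by
      intro u hu u1
      have h2 := orderOf_dvd_natCard (⟨u, hu⟩ : F)
      rw [hc4, Subgroup.orderOf_mk] at h2
      obtain ⟨i, hi, e⟩ := (Nat.dvd_prime_pow Nat.prime_two).1 h2
      interval_cases i
      · exact absurd (orderOf_eq_one_iff.1 e) u1
      · exact e
      · exact absurd (h9 u (hF hu)) (four_C e hc (hm (hF hu)).1)
    obtain ⟨u, hu, u1, -⟩ := exists_other (V := F) (by rw [hc4]; norm_num) 1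
    obtain ⟨v, hv, v1, vu, -⟩ := exists_other (V := F) (by rw [hc4]; norm_num) u
    exact not_four_C (Four.of_isConj ⟨u, v, ho u hu u1, ho v hv v1, vu.symm, comm_of_sq Nat.prime_two hc4 hu hv,
      (hm (hF hu)).1, (hm (hF hv)).1⟩ hc.symm)
  have h6 : ¬ 3 ^ (5 + 1) ∣ Nat.card H := by
    intro h6
    have hcd : c * d ∈ H := ⟨mem_centralizer_singleton_iff.2 (by rw [mul_assoc, ← hI.comm]),
      mem_centralizer_singleton_iff.2 (by rw [← mul_assoc, hI.comm])⟩
    obtain ⟨R, haR, hRH, hR, hc6⟩ := exists_big (zpowers_le_of_mem hcd) (IsPGroup.of_card (n := 1) (by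
      rw [Nat.card_zpowers, isConj_order hA, oA, pow_one])) h6
    obtain ⟨k, hk⟩ := isConj_iff.1 (isC_u3.symm.trans hc)
    obtain ⟨l, -, hl⟩ := sylow_conj (L := centralizer ({thDat.u3} : Set Th)) (A := cj R k) (fun y hy => by
        have := (hm (hRH (mem_cj.1 hy))).1
        rw [← hk] at this
        rw [mem_centralizer_singleton_iff]
        calc y * thDat.u3 = k⁻¹ * (k * y * k⁻¹ * (k * thDat.u3 * k⁻¹)) * k := by group
          _ = _ := by rw [this]; group) N_le_C3 (hR.comap_of_injective _ (MulAut.conj k).injective) (card_N h1)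
      (by rw [← card_cent_isConj isC_u3]; exact three_C)
    have hRN : cj (cj R k) l ≤ thDat.N := fun y hy => by simpa [mul_assoc] using hl _ (mem_cj.1 hy)
    have ha := cj_mem (cj_mem (haR (mem_zpowers _)) k) l
    have hA' : IsConj xA (l⁻¹ * (k⁻¹ * (c * d) * k) * l) := hA.trans ((isConj_of rfl).trans (isConj_of rfl)).symm
    have hcm : ∀ r ∈ cj (cj R k) l, r * (l⁻¹ * (k⁻¹ * (c * d) * k) * l) = l⁻¹ * (k⁻¹ * (c * d) * k) * l * r := by
      intro r hr
      obtain ⟨e1, e2⟩ := hm (hRH (mem_cj.1 (mem_cj.1 hr)))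
      calc _ = l⁻¹ * k⁻¹ * (k * (l * r * l⁻¹) * k⁻¹ * c * d) * k * l := by group
        _ = l⁻¹ * k⁻¹ * (c * (k * (l * r * l⁻¹) * k⁻¹ * d)) * k * l := by rw [e1]; group
        _ = _ := by rw [e2]; group
    generalize l⁻¹ * (k⁻¹ * (c * d) * k) * l = a at ha hA' hcm
    have haU : a ∈ thDat.U := by
      by_contra hn
      obtain ⟨t, -, ht⟩ := toVs h1 (hRN ha) hn
      exact not_A_Vs (ht a (hRN ha) rfl) (hA'.trans (isConj_of rfl).symm)
    obtain ⟨e, rfl⟩ := (thDat.mem_U).1 haU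
    have hU : cj (cj R k) l ≤ thDat.U := fun r hr => by
      obtain ⟨p, q, hpq⟩ := act_N (hRN hr)
      have e1 : T p q 0 0 e = e := uu_injective h1 (by rw [← hpq, mul_assoc, ← hcm r hr, inv_mul_cancel_left])
      by_cases e0 : (p, q) = (0, 0)
      · obtain ⟨rfl, rfl⟩ := Prod.mk.inj e0
        exact mem_U_of_act h1 (thDat.N_le_Sg (hRN hr)) (hpq.congr T_zero)
      · exact absurd (Qf_of_A hA') (dec_Q2 _ (T_fix45 p q e e0 e1))
    have := card_le_of_le hU
    rw [card_cj, card_cj, card_U h1] at this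
    exact absurd (hc6.trans this) (by norm_num)
  exact Nat.le_of_dvd (by norm_num)
    (dvd_of_parts (a := 1) (b := 5) (c := 0) (d := 0) (e := 0) (f := 0) (g := 0) (sub_dvd _) h4 h6 h5
      (nd (by norm_num)) (nd (by norm_num)) (nd (by norm_num)) (nd (by norm_num)))

theorem dec_BB : ∀ y z : V3, Qf y = 0 → Qf z = 0 → y ≠ 0 → z ≠ 0 → z ≠ y → z ≠ -y → Qf (y + z) = 1 ∨ Qf (y - z) = 1 := by
  decide +kernel

theorem dec_AA : ∀ y z : V3, Qf y = 2 → Qf z = 2 → z ≠ y → z ≠ -y → Qf (y + z) = 1 ∨ Qf (y - z) = 1 ∨ Qf (y + z) = 0 ∨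
    Qf (y - z) = 0 := by
  decide +kernel

theorem dec_CC : ∀ y z : V3, Qf y = 1 → Qf z = 1 → z ≠ y → z ≠ -y → Qf (y + z) = 2 := by decide +kernel

theorem card_QC : (Finset.univ.filter fun y : V3 => Qf y = 1).card = 6 := by decide +kernel

theorem caseMix {A V : Subgroup Th} (h : PA A) (hE : EA V) (hN : Nm A V) (hM : Mn A V) (hB : ¬ PureB V)
    (hV : V ≤ thDat.U) : False := by
  haveI := finTh
  have h1 := th_u1_ne
  let NB : Th → Prop := fun v => IsConj xA v ∨ IsConj xC v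
  have NBc : ∀ {v : Th} (a : Th), NB v → NB (a * v * a⁻¹) := fun a hv =>
    hv.imp (fun e => e.trans (isConj_iff.2 ⟨a, rfl⟩)) fun e => e.trans (isConj_iff.2 ⟨a, rfl⟩)
  have smul : ∀ {w w' : Th}, (w ∈ V ∧ ∀ v ∈ V, NB v → NB (w * v)) → (w' ∈ V ∧ ∀ v ∈ V, NB v → NB (w' * v)) →
      (w * w' ∈ V ∧ ∀ v ∈ V, NB v → NB (w * w' * v)) := fun hw hw' =>
    ⟨mul_mem hw.1 hw'.1, fun v hv hn => by rw [mul_assoc]; exact hw.2 _ (mul_mem hw'.1 hv) (hw'.2 v hv hn)⟩
  let S : Subgroup Th :=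
    { carrier := {w | w ∈ V ∧ ∀ v ∈ V, NB v → NB (w * v)}
      one_mem' := ⟨V.one_mem, fun v _ hv => by rwa [one_mul]⟩
      mul_mem' := smul
      inv_mem' := fun {w} hw => by
        rw [← sq_eq_inv (hE.pow w hw.1), pow_two]
        exact smul hw hw }
  have hS : S = ⊥ := by
    refine (hM S (fun _ hw => hw.1) fun a ha w hw => ⟨hN a ha w hw.1, fun v hv hn => ?_⟩).resolve_right fun e => ?_
    · have := NBc a (hw.2 _ (hN _ (inv_mem ha) v hv) (NBc a⁻¹ hn))
      rwa [show a * (w * (a⁻¹ * v * a⁻¹⁻¹)) * a⁻¹ = a * w * a⁻¹ * v by group] at this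
    · refine hB fun v hv v1 => ?_
      rcases cls3 (hE.ord hv v1) with q | q | q
      · have := (show v⁻¹ ∈ S from e ▸ inv_mem hv).2 v hv (Or.inl q)
        rw [inv_mul_cancel] at this
        exact (this.elim (ne_one_of oA · rfl) (ne_one_of oC · rfl)).elim
      · exact q
      · have := (show v⁻¹ ∈ S from e ▸ inv_mem hv).2 v hv (Or.inr q)
        rw [inv_mul_cancel] at this
        exact (this.elim (ne_one_of oA · rfl) (ne_one_of oC · rfl)).elim
  have hW : ∀ e, thDat.uu e ∈ V → e.2.2 = 0 → e = 0 := by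
    intro e he e0
    refine uu_injective h1 ((mem_bot.1 (hS ▸ (⟨he, fun v hv hn => ?_⟩ : thDat.uu e ∈ S))).trans thDat.uu_zero.symm)
    obtain ⟨f, rfl⟩ := (thDat.mem_U).1 (hV hv)
    have e1 : (e + f).2.2 = f.2.2 := by rw [Prod.snd_add, Prod.snd_add, e0, zero_add]
    rw [← uu_add]
    exact hn.imp (fun q => isA_uu (e1 ▸ Qf_of_A q)) fun q => isC_uu (e1 ▸ Qf_of_C q)
  have hsub : ∀ {e f}, thDat.uu e ∈ V → thDat.uu f ∈ V → thDat.uu (e - f) ∈ V := fun he hf => by
    rw [sub_eq_add_neg, uu_add, uu_neg]; exact mul_mem he (inv_mem hf)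
  have hadd : ∀ {e f}, thDat.uu e ∈ V → thDat.uu f ∈ V → thDat.uu (e + f) ∈ V := fun he hf => by
    rw [uu_add]; exact mul_mem he hf
  have inj : ∀ {e f}, thDat.uu e ∈ V → thDat.uu f ∈ V → e.2.2 = f.2.2 → e = f := fun he hf q =>
    sub_eq_zero.1 (hW _ (hsub he hf) (by rw [Prod.snd_sub, Prod.snd_sub, q, sub_self]))
  have two : ∀ {y : Th} {e : V5}, thDat.uu e ∈ V → orderOf y = 3 → IsConj y (thDat.uu e) → ∃ f, thDat.uu f ∈ V ∧
      IsConj y (thDat.uu f) ∧ f.2.2 ≠ e.2.2 ∧ f.2.2 ≠ -e.2.2 := by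
    intro y e he hy hc
    obtain ⟨x, hx, h2, h3, h4⟩ := exists_two h hE hN he (ne_one_of hy hc) hc
    obtain ⟨f, rfl⟩ := (thDat.mem_U).1 (hV hx)
    refine ⟨f, hx, h2, fun q => h3 (congrArg _ (inj hx he q)), fun q => h4 ?_⟩
    rw [← uu_neg]
    exact congrArg _ (inj hx (by rw [uu_neg]; exact inv_mem he) q)
  have fromB : ∀ e, thDat.uu e ∈ V → e.2.2 ≠ 0 → Qf e.2.2 = 0 → ∃ e, thDat.uu e ∈ V ∧ Qf e.2.2 = 1 := by
    intro e he e0 q
    obtain ⟨f, hf, h2, h3, h4⟩ := two he oB (isB_uu (by rintro rfl; exact e0 rfl) q)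
    rcases dec_BB _ _ q (Qf_of_B h2) e0 (fun q' => ne_one_of oB h2 (by rw [hW f hf q', uu_zero])) h3 h4 with q' | q'
    · exact ⟨_, hadd he hf, q'⟩
    · exact ⟨_, hsub he hf, q'⟩
  have hC : ∃ e, thDat.uu e ∈ V ∧ Qf e.2.2 = 1 := by
    unfold PureB at hB
    push Not at hB
    obtain ⟨v, hv, v1, hvB⟩ := hB
    obtain ⟨e, rfl⟩ := (thDat.mem_U).1 (hV hv)
    rcases cls3 (hE.ord hv v1) with q | q | q
    · obtain ⟨f, hf, h2, h3, h4⟩ := two hv oA q
      rcases dec_AA _ _ (Qf_of_A q) (Qf_of_A h2) h3 h4 with q' | q' | q' | q'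
      · exact ⟨_, hadd hv hf, q'⟩
      · exact ⟨_, hsub hv hf, q'⟩
      · exact fromB _ (hadd hv hf) (fun e0 => h4 (eq_neg_of_add_eq_zero_right e0)) q'
      · exact fromB _ (hsub hv hf) (fun e0 => h3 (sub_eq_zero.1 e0).symm) q'
    · exact absurd q hvB
    · exact ⟨e, hv, Qf_of_C q⟩
  obtain ⟨e, he, q⟩ := hC
  have hc := isC_uu q
  obtain ⟨f, hf, hd, h3, h4⟩ := two he oC hc
  have hI := hE.ind he hf (ne_one_of oC hc) (ne_one_of oC hd) (fun q' => h3 (by rw [uu_injective h1 q']))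
    fun q' => h4 (by rw [uu_injective h1 (q'.trans (thDat.uu_neg e).symm)]; rfl)
  have hH := card_CC hI hc (by rw [← uu_add]; exact isA_uu (dec_CC _ _ q (Qf_of_C hd) h3 h4))
  have hX : {v | v ∈ V ∧ IsConj xC v}.ncard ≤ 6 := by
    have e1 : {v | v ∈ V ∧ IsConj xC v} ⊆ thDat.uu '' {e | thDat.uu e ∈ V ∧ Qf e.2.2 = 1} := fun v hv => by
      obtain ⟨g, rfl⟩ := (thDat.mem_U).1 (hV hv.1)
      exact ⟨g, ⟨hv.1, Qf_of_C hv.2⟩, rfl⟩
    refine (Set.ncard_le_ncard e1).trans ((Set.ncard_image_le).trans ?_)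
    rw [← card_QC, ← Set.ncard_coe_finset]
    exact Set.ncard_le_ncard_of_injOn (fun e => e.2.2) (fun e he => by simpa using he.2) fun a ha b hb q => inj ha.1 hb.1 q
  have k1 := NegS.card_le_of_conj (A := A) (X := {v | v ∈ V ∧ IsConj xC v}) (x := thDat.uu e) fun a ha =>
    ⟨hN a ha _ he, hc.trans (isConj_iff.2 ⟨a, rfl⟩)⟩
  have k2 := NegS.card_le_of_conj (A := A ⊓ centralizer {thDat.uu e}) (X := {v | v ∈ V ∧ IsConj xC v}) (x := thDat.uu f)
    fun a ha => ⟨hN a ha.1 _ hf, hd.trans (isConj_iff.2 ⟨a, rfl⟩)⟩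
  have k3 := (card_le_of_le (show (A ⊓ centralizer {thDat.uu e}) ⊓ centralizer {thDat.uu f} ≤
    centralizer {thDat.uu e} ⊓ centralizer {thDat.uu f} from fun a ha => ⟨ha.1.2, ha.2⟩)).trans hH
  have k4 : Nat.card A ≤ 6 * (6 * 486) := k1.trans (Nat.mul_le_mul hX (k2.trans (Nat.mul_le_mul hX k3)))
  have k5 : ∀ r, nOrd A r ≤ 6 * (6 * 486) := fun r => (ncard_le_card_subgroup fun _ hx => hx.1).trans k4
  exact kill' h (k4.trans (by norm_num)) ((k5 2).trans (by norm_num)) ((k5 3).trans (by norm_num))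

/-- **no pair lies in a 3-local subgroup** -/
theorem not_inLoc {A B : Subgroup Th} (h : IsPair A B) : ¬ InLoc 3 A := by
  haveI := finTh
  rintro ⟨V₀, h0, hp, hA⟩
  obtain ⟨V₁, -, h₁⟩ := Mon.exists_minInv Nat.prime_three h0 hp fun a ha v hv => (mem_normalizer_iff.1 (hA ha) v).1 hv
  have hE : EA V₁ := ⟨h₁.pow, h₁.comm⟩
  obtain ⟨g, hg⟩ := hE.loc
  have hne : cj V₁ g ≠ ⊥ := fun e => h₁.ne_bot (by
    rw [← card_eq_one, ← card_cj V₁ g, e, card_bot])
  obtain ⟨V, hV, h₂⟩ := Mon.exists_minInv Nat.prime_three hne (hE.cj g).isPGroup (Nm.cj h₁.norm g)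
  have hP : PA (cj A g) := PA.cj ⟨B, h⟩ g
  have hE' : EA V := ⟨h₂.pow, h₂.comm⟩
  rcases hg with hg | hg
  · have hU : V ≤ thDat.U := fun v hv => by simpa [mul_assoc] using hg _ (mem_cj.1 (hV hv))
    by_cases hB : PureB V
    · exact casePure hP hE' h₂.norm h₂.ne_bot hB hU
    · exact caseMix hP hE' h₂.norm h₂.min hB hU
  · exact caseVs hP hE' h₂.norm h₂.ne_bot h₂.min fun v hv => by simpa [mul_assoc] using hg _ (mem_cj.1 (hV hv))

/-- **the 3-local box** -/
theorem box3 : Box3 := fun _ _ _ h _ => not_inLoc h.pair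

end Cfsg.Agent.SP.NTh.Three
end

-- part: SP/NTh/Three/Main_mg
section

end

-- part: SP/Neg/Th
section
set_option linter.all false

/-! # S5755: the Thompson group has no pair (helper23) -/

set_option autoImplicit false

namespace Cfsg.Agent.SP

/-- **The Thompson group has no pair.** -/
theorem negTh (hC : CFSG.{0}) : ¬ Pair Cfsg.Spor.Th :=
  NTh.negTh_of NTh.thr NTh.P.boxP NTh.box2 NTh.Three.box3 NTh.boxRed NTh.boxNL NTh.rowU38 NTh.rowD4 NTh.rowU43
    NTh.rowG23 hC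

end Cfsg.Agent.SP
end

-- part: SP/NJ3/Main_mg
section

end

-- part: SP/Pos/Ly
section
set_option linter.all false
open scoped Cfsg.Agent.FastGrp

/-! # S5755, the row of `Ly`: `N(3A) = 3.McL:2` over `C(3A) = 3.McL` -/

set_option autoImplicit false

namespace Cfsg.Agent.SP.PosD.Lyons

open Cfsg.Agent.Ly.Setup (psi)
open Cfsg.Agent.Ly.Cover (Hhat)

theorem orb_Sm : Orb Sm := closB_sound ((ctx_eq fun _ s => closB s Sm).symm.trans clos_ok)

theorem wsb_full : ∀ w ∈ wsb, Full X0 (wd w) := by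
  intro w hw
  simp only [wsb, List.mem_cons, List.not_mem_nil, or_false] at hw
  rcases hw with rfl | rfl | rfl | rfl
  · exact lv2B_sound orb_Sm ((ctx_eq fun r s => lv2B r s Sm wb0 gb0 tb0 rb0).symm.trans lb0_ok)
  · exact lv2B_sound orb_Sm ((ctx_eq fun r s => lv2B r s Sm wb1 gb1 tb1 rb1).symm.trans lb1_ok)
  · exact lv2B_sound orb_Sm ((ctx_eq fun r s => lv2B r s Sm wb2 gb2 tb2 rb2).symm.trans lb2_ok)
  · exact lv2B_sound orb_Sm ((ctx_eq fun r s => lv2B r s Sm wb3 gb3 tb3 rb3).symm.trans lb3_ok)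

theorem full_bw {i : ℕ} (hi : i < 5) : ∀ a : Hhat, Full (cj a) (wd (bw i)) := by
  interval_cases i
  · exact lv1B_sound orb_Sm wsb_full ((ctx_eq fun r s => lv1B r s Sm wsb (bw 0) ga0 ta0 ra0).symm.trans la0_ok)
  · exact lv1B_sound orb_Sm wsb_full ((ctx_eq fun r s => lv1B r s Sm wsb (bw 1) ga1 ta1 ra1).symm.trans la1_ok)
  · exact lv1B_sound orb_Sm wsb_full ((ctx_eq fun r s => lv1B r s Sm wsb (bw 2) ga2 ta2 ra2).symm.trans la2_ok)
  · exact lv1B_sound orb_Sm wsb_full ((ctx_eq fun r s => lv1B r s Sm wsb (bw 3) ga3 ta3 ra3).symm.trans la3_ok)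
  · exact lv1B_sound orb_Sm wsb_full ((ctx_eq fun r s => lv1B r s Sm wsb (bw 4) ga4 ta4 ra4).symm.trans la4_ok)

theorem gd_conj (t : GG) : Gd X0 (t⁻¹ * X0 * t) := by
  obtain ⟨i, hi, a, b, rfl⟩ := decomp t
  have h := (full_bw hi b⁻¹ a).conj (psi b)
  unfold cj at h
  rw [map_inv] at h
  generalize X0 = y at h ⊢
  rwa [show (psi b)⁻¹ * ((psi b)⁻¹⁻¹ * y * (psi b)⁻¹) * psi b = y by group,
    show (psi b)⁻¹ * ((wd (bw i))⁻¹ * ((psi a)⁻¹ * y * psi a) * wd (bw i)) * psi b =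
      (psi a * wd (bw i) * psi b)⁻¹ * y * (psi a * wd (bw i) * psi b) by group] at h

/-- the elements centralising or inverting `y` -/
def nmSub {G : Type*} [Group G] (y : G) : Subgroup G where
  carrier := {g | Nm g y}
  one_mem' := Or.inl (by simp)
  mul_mem' := by
    intro a b ha hb
    rcases ha with ha | ha <;> rcases hb with hb | hb
    · left; rw [mul_assoc, hb, ← mul_assoc, ha, mul_assoc]
    · right; rw [mul_assoc, hb, ← mul_assoc, inv_rel ha, mul_assoc]
    · right; rw [mul_assoc, hb, ← mul_assoc, ha, mul_assoc]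
    · left; rw [mul_assoc, hb, ← mul_assoc, inv_rel ha, inv_inv, mul_assoc]
  inv_mem' := by
    intro a ha
    rcases ha with ha | ha
    · left
      calc a⁻¹ * y = a⁻¹ * (y * a) * a⁻¹ := by group
        _ = y * a⁻¹ := by rw [← ha]; group
    · right
      have h1 := inv_rel ha
      rw [inv_inv] at h1
      calc a⁻¹ * y = a⁻¹ * (y * a) * a⁻¹ := by group
        _ = y⁻¹ * a⁻¹ := by rw [← h1]; group

theorem pair_of {G : Type*} [Group G] {y : G} (h1 : y ≠ y⁻¹) (h2 : ∃ g, ¬ Nm g y)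
    (h3 : ∀ t, Gd y (t⁻¹ * y * t)) : Pair G := by
  refine ⟨nmSub y, Subgroup.centralizer {y}, isPair_of_index_two ?_ ?_ ?_ ?_⟩
  · intro h
    obtain ⟨g, hg⟩ := h2
    exact hg (show g ∈ nmSub y from h ▸ Subgroup.mem_top g)
  · intro g hg
    exact Or.inl (Subgroup.mem_centralizer_singleton_iff.1 hg)
  · intro a ha b hb na nb
    rw [Subgroup.mem_centralizer_singleton_iff] at na nb ⊢
    have ha' : a * y = y⁻¹ * a := (show Nm a y from ha).resolve_left na
    have hb' : b * y = y⁻¹ * b := (show Nm b y from hb).resolve_left nb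
    rw [mul_assoc, hb', ← mul_assoc, inv_rel ha', inv_inv, mul_assoc]
  · intro t
    obtain ⟨g, hg, hn⟩ := h3 t⁻¹
    refine ⟨g, Or.inr hg, ?_, fun hc => h1 ?_⟩
    · have h4 := hn.conj t
      rwa [show t⁻¹ * (t⁻¹⁻¹ * y * t⁻¹) * t = y by group] at h4
    · rw [Subgroup.mem_centralizer_singleton_iff, hg] at hc
      exact (mul_right_cancel hc).symm

theorem X0_ne : X0 ≠ X0⁻¹ := by
  have h := ne_of_row (v := x0) (w := iw x0) 0 (by decide +kernel)
  rwa [wd_iw] at h

theorem not_nm : ¬ Nm (wd [1]) X0 := by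
  have h1 := ne_of_row (v := [1] ++ x0) (w := x0 ++ [1]) 0 (by decide +kernel)
  have h2 := ne_of_row (v := [1] ++ x0) (w := iw x0 ++ [1]) 0 (by decide +kernel)
  rw [wd_append, wd_append] at h1
  rw [wd_append, wd_append, wd_iw] at h2
  exact fun h => h.elim h1 h2

end Cfsg.Agent.SP.PosD.Lyons

namespace Cfsg.Agent.SP

/-- The row of `Ly`. -/
theorem posLy : PairAut Cfsg.Spor.Ly :=
  (PosD.Lyons.pair_of PosD.Lyons.X0_ne ⟨_, PosD.Lyons.not_nm⟩ PosD.Lyons.gd_conj).pairAut fun τ =>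
    let ⟨t, ht⟩ := Cfsg.Agent.TypeM.OutLyFin.inner_ly τ; ⟨t, ht.symm⟩

end Cfsg.Agent.SP

private theorem dce_00964045bf37 : _root_.True := by
  try have : _root_.True := by simp only [_root_.Cfsg.Agent.SP.PosD.Lyons.wsb.eq_1]
  exact _root_.True.intro
end

-- part: SP/Pos/J4_mg
section

end
end
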