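import Cfsg.Agent.SP.NTh.D4.Abs_m3
import Cfsg.Agent.Prune
set_option linter.all false
prune_inst 0x7f00000000000000000000000000000000000000000000000000000000000000000000000000000000000000000000000000000000000000000000000000000000000000000000000000000000000000003fffffffffffffffffffffffffffbeffbdffffffff

/-! # HN: kernel checks, relators -/

set_option autoImplicit false

namespace Cfsg.Agent.SP.PosB.HN

theorem cR4 : chkRel LM 4 [4] = true := by decide +kernel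
theorem cR5 : chkRel LM 2 [2, 2, 2, 2, 2, 2, 2, 2, 2, 2, 2] = true := by decide +kernel
theorem cR6 : chkRel LM 3 [1, 3, 1, 1, 2, 1, 1, 2, 0, 0] = true := by decide +kernel
theorem cR7 : chkRel LM 3 [1, 3, 3, 3, 1, 2, 0, 0, 0, 0, 0, 0, 0, 0] = true := by decide +kernel
theorem cR8 : chkRel LM 2 [2, 2, 2, 2, 2, 1, 3, 0, 3, 0, 3, 0, 0] = true := by decide +kernel
theorem cR9 : chkRel LM 3 [0, 3, 3, 3, 1, 3, 0, 0, 2, 0, 0, 2, 0, 0] = true := by decide +kernel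
theorem cR10 : chkRel LM 2 [2, 0, 0, 2, 2, 0, 0, 2, 2, 0, 0] = true := by decide +kernel
theorem cR11 : chkRel LM 3 [1, 3, 3, 0, 3, 3, 1, 3, 0, 2, 0, 3, 0, 0] = true := by decide +kernel
theorem cR12 : chkRel LM 2 [0, 3, 3, 0, 2, 2, 0, 2, 0, 3, 3, 0, 0] = true := by decide +kernel
theorem cR13 : chkRel LM 0 [0, 0, 0, 0, 0, 0, 0, 0, 0, 0, 0, 0, 0, 0, 0, 0, 0, 0, 0, 0] = true := by decide +kernel
theorem cR14 : chkRel LM 2 [4, 0, 4, 3, 0, 2, 2, 2, 0] = true := by decide +kernel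
theorem cR15 : chkRel LM 4 [0, 0, 0, 4, 0, 0, 0] = true := by decide +kernel
theorem cR16 : chkRel LM 4 [1, 2, 0, 0, 4, 1, 2, 0, 0, 4, 1, 2, 0, 0] = true := by decide +kernel
theorem cR17 : chkRel LM 3 [1, 2, 0, 2, 4, 1, 4, 0, 2, 0, 3, 3, 0, 0] = true := by decide +kernel
theorem cR18 : chkRel LM 3 [4, 2, 2, 0, 4, 3, 4, 3, 4, 1, 2, 0] = true := by decide +kernel
theorem cR19 : chkRel LM 3 [0, 3, 4, 0, 4, 2, 1, 3, 3, 0, 0] = true := by decide +kernel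
theorem cR20 : chkRel LM 3 [3, 3, 3, 3, 1, 4, 0, 4, 2, 1, 2, 2, 2, 2, 0] = true := by decide +kernel
theorem cR21 : chkRel LM 3 [1, 1, 2, 1, 2, 0, 3, 3, 4, 1, 4, 2, 0, 0, 0] = true := by decide +kernel
theorem cR22 : chkRel LM 4 [1, 3, 3, 0, 3, 4, 0, 0, 4, 3, 1, 2, 4, 0, 0] = true := by decide +kernel
theorem cR23 : chkRel LM 3 [1, 3, 1, 3, 4, 0, 4, 2, 1, 3, 0, 0] = true := by decide +kernel
theorem cR24 : chkRel LM 2 [4, 0, 4, 2, 1, 3, 0, 2, 0, 0, 3, 3, 0, 0, 0] = true := by decide +kernel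
theorem cR25 : chkRel LM 4 [1, 4, 0, 0, 3, 0, 2, 2, 2, 0, 2, 0, 0, 0] = true := by decide +kernel

end Cfsg.Agent.SP.PosB.HN
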